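import Cfsg.Agent.Lib.Helper6.Orb.Defs
import Cfsg.Agent.Lib.Helper1.CentricRadical

/-!
# S4125 orbit lemma: basic facts (step 0 of `notes/S4125_orbit_lemma_proof.md`)
-/

set_option autoImplicit false

namespace Cfsg.Agent.Lib.Helper6.Orb

variable {p q : ℕ} [hp : Fact p.Prime] [hq : Fact q.Prime]
  {H V : Type*} [Group H] [Finite H] [AddCommGroup V] [Finite V] [DistribMulAction H V]

theorem orbit_sub (N : Subgroup H) (v : V) :
    MulAction.orbit N v ⊆ MulAction.orbit H v := by
  rintro x ⟨g, rfl⟩
  exact ⟨(g : H), rfl⟩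

theorem card_orbit_eq_index (N : Type*) [Group N] [MulAction N V] (v : V) :
    Nat.card (MulAction.orbit N v) = (MulAction.stabilizer N v).index := by
  rw [MulAction.index_stabilizer, Nat.card_coe_set_eq]

/-- (0.1) a Sylow `p`-subgroup has the same orbits as `H`. -/
theorem orbit_eq_of_pp (h : PP p H V) (P : Sylow p H) (v : V) :
    MulAction.orbit (P : Subgroup H) v = MulAction.orbit H v := by
  classical
  obtain ⟨a, ha⟩ := h v
  have hfin : (MulAction.orbit H v).Finite := Set.toFinite _
  apply Set.eq_of_subset_of_ncard_le (orbit_sub _ v) _ hfin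
  -- cardinalities
  have hH : Nat.card (MulAction.stabilizer H v) * p ^ a = Nat.card H := by
    rw [← ha, card_orbit_eq_index]; exact Subgroup.card_mul_index _
  set SP := MulAction.stabilizer (P : Subgroup H) v with hSP
  have hPcard : Nat.card SP * SP.index = Nat.card (P : Subgroup H) := Subgroup.card_mul_index _
  obtain ⟨b, hb⟩ : ∃ b, Nat.card SP = p ^ b :=
    IsPGroup.iff_card.mp (P.2.to_subgroup SP)
  have hn := P.card_eq_multiplicity
  -- SP embeds in the stabilizer in H
  have hdvd : Nat.card SP ∣ Nat.card (MulAction.stabilizer H v) := by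
    let f : SP →* MulAction.stabilizer H v :=
      { toFun := fun x => ⟨((x : (P : Subgroup H)) : H), by
          have := x.2
          rw [MulAction.mem_stabilizer_iff] at this ⊢
          exact this⟩
        map_one' := rfl
        map_mul' := fun _ _ => rfl }
    apply Subgroup.card_dvd_of_injective f
    intro x y hxy
    have := congrArg (fun z : MulAction.stabilizer H v => (z : H)) hxy
    exact Subtype.ext (Subtype.ext this)
  have hne : Nat.card H ≠ 0 := Nat.card_pos.ne'
  have hab : a + b ≤ (Nat.card H).factorization p := by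
    rw [← hp.out.pow_dvd_iff_le_factorization hne, pow_add, ← hH, mul_comm]
    exact Nat.mul_dvd_mul_right (hb ▸ hdvd) _
  have hidx : SP.index = p ^ ((Nat.card H).factorization p - b) := by
    have h1 : p ^ b * SP.index = p ^ b * p ^ ((Nat.card H).factorization p - b) := by
      rw [← hb, hPcard, hn, hb, ← pow_add]; congr 1; omega
    exact Nat.eq_of_mul_eq_mul_left (pow_pos hp.out.pos b) h1
  rw [← Nat.card_coe_set_eq, ← Nat.card_coe_set_eq, ha, card_orbit_eq_index, ← hSP, hidx]
  exact Nat.pow_le_pow_right hp.out.pos (by omega)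

/-- (0.1') every subset of `V` invariant under a Sylow `p`-subgroup is `H`-invariant. -/
theorem smul_mem_of_sylow_invariant (h : PP p H V) (P : Sylow p H) {T : Set V}
    (hT : ∀ g ∈ (P : Subgroup H), ∀ t ∈ T, g • t ∈ T) (x : H) {t : V} (ht : t ∈ T) :
    x • t ∈ T := by
  have hx : x • t ∈ MulAction.orbit H t := ⟨x, rfl⟩
  rw [← orbit_eq_of_pp h P t] at hx
  obtain ⟨g, hg⟩ := hx
  rw [← hg]
  exact hT g g.2 t ht

/-- (0.2) overgroups of a Sylow `p`-subgroup inherit the property. -/
theorem PP.of_sylow_le (h : PP p H V) (P : Sylow p H) {L : Subgroup H}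
    (hPL : (P : Subgroup H) ≤ L) : PP p L V := by
  intro v
  have : MulAction.orbit L v = MulAction.orbit (P : Subgroup H) v := by
    apply Set.Subset.antisymm
    · rw [orbit_eq_of_pp h P v]; exact orbit_sub L v
    · rintro x ⟨g, rfl⟩
      exact ⟨⟨(g : H), hPL g.2⟩, rfl⟩
  rw [this]
  exact P.2.card_orbit v

/-- (0.3) normal subgroups inherit the property. -/
theorem PP.of_normal (h : PP p H V) (N : Subgroup H) [N.Normal] : PP p N V := by
  classical
  intro v
  obtain ⟨a, ha⟩ := h v
  -- |N : C_N(v)| = |N C_H(v) : C_H(v)| divides |H : C_H(v)|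
  rw [card_orbit_eq_index] at ha ⊢
  have h1 : (MulAction.stabilizer N v) = (MulAction.stabilizer H v).subgroupOf N := by
    ext x
    simp only [MulAction.mem_stabilizer_iff, Subgroup.mem_subgroupOf]
    rfl
  rw [h1]
  have h2 : (MulAction.stabilizer H v).relIndex N ∣ (MulAction.stabilizer H v).index := by
    rw [← Cfsg.Agent.Lib.Helper1.CentricRadical.relIndex_sup_of_normal_right]
    exact Subgroup.relIndex_dvd_index_of_le le_sup_left
  have h3 : ((MulAction.stabilizer H v).subgroupOf N).index ∣ p ^ a := ha ▸ h2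
  exact (Nat.dvd_prime_pow hp.out).mp h3 |>.imp fun _ hk => hk.2


/-- (0.5) a normal `p'`-subgroup acts trivially, hence is trivial. -/
theorem eq_bot_of_normal_coprime [FaithfulSMul H V] (h : PP p H V) (N : Subgroup H) [N.Normal]
    (hN : (Nat.card N).Coprime p) : N = ⊥ := by
  have hPN := h.of_normal N
  rw [Subgroup.eq_bot_iff_forall]
  intro n hn
  apply eq_of_smul_eq_smul (α := V)
  intro v
  rw [one_smul]
  obtain ⟨a, ha⟩ := hPN v
  have hdvd : Nat.card (MulAction.orbit N v) ∣ Nat.card N := by
    rw [card_orbit_eq_index]; exact Subgroup.index_dvd_card _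
  have h1 : p ^ a = 1 := by
    have h2 : (p ^ a).Coprime (p ^ a) :=
      Nat.Coprime.coprime_dvd_left (ha ▸ hdvd) (Nat.Coprime.pow_right a hN)
    exact (Nat.coprime_self _).mp h2
  rw [h1] at ha
  have hsub : Subsingleton (MulAction.orbit N v) := (Nat.card_eq_one_iff_unique.mp ha).1
  have h3 : (⟨(⟨n, hn⟩ : N) • v, ⟨⟨n, hn⟩, rfl⟩⟩ : MulAction.orbit N v) =
      ⟨v, MulAction.mem_orbit_self v⟩ := Subsingleton.elim _ _
  exact congrArg Subtype.val h3

namespace Setup

variable [FaithfulSMul H V]

theorem solvable_of_normal (S : Setup p q H V) (N : Subgroup H) [N.Normal] (hN : N ≠ ⊤) :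
    Group.IsSolvable N := S.ih N hN (S.pp.of_normal N)

theorem solvable_of_sylow_le (S : Setup p q H V) (P : Sylow p H) {L : Subgroup H}
    (hPL : (P : Subgroup H) ≤ L) (hL : L ≠ ⊤) : Group.IsSolvable L :=
  S.ih L hL (S.pp.of_sylow_le P hPL)

/-- step 2: `V` is irreducible under a Sylow `p`-subgroup. -/
theorem sylow_irr (S : Setup p q H V) (P : Sylow p H) (W : AddSubgroup V)
    (hW : ∀ g ∈ (P : Subgroup H), ∀ w ∈ W, g • w ∈ W) : W = ⊥ ∨ W = ⊤ :=
  S.irr W fun x _ hw => smul_mem_of_sylow_invariant S.pp P (T := (W : Set V)) hW x hw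

/-- `V` has exponent `q`. -/
theorem nsmul_eq_zero (S : Setup p q H V) (v : V) : q • v = 0 := by
  classical
  obtain ⟨k, hk⟩ := S.cardV
  rcases Nat.eq_zero_or_pos k with rfl | hkpos
  · rw [pow_zero] at hk
    haveI : Subsingleton V := (Nat.card_eq_one_iff_unique.mp hk).1
    exact Subsingleton.elim _ _
  let K : AddSubgroup V := (nsmulAddMonoidHom q : V →+ V).ker
  have hK : ∀ x : H, ∀ w ∈ K, x • w ∈ K := by
    intro x w hw
    change q • (x • w) = 0
    have hw' : q • w = 0 := hw
    rw [smul_comm q x w, hw', smul_zero]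
  rcases S.irr K hK with h0 | h1
  · exfalso
    have hdvd : q ∣ Nat.card V := hk ▸ dvd_pow_self q hkpos.ne'
    obtain ⟨x, hx⟩ := exists_prime_addOrderOf_dvd_card' q hdvd
    have hxK : x ∈ K := by
      change q • x = 0
      rw [← hx]; exact addOrderOf_nsmul_eq_zero x
    rw [h0, AddSubgroup.mem_bot] at hxK
    rw [hxK, addOrderOf_zero] at hx
    exact hq.out.one_lt.ne hx
  · have : v ∈ K := h1 ▸ AddSubgroup.mem_top v
    exact this

/-- step 2: nontrivial central elements of a Sylow `p`-subgroup are fixed-point-free. -/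
theorem fixed_eq_zero (S : Setup p q H V) (P : Sylow p H) {z : H}
    (hzc : ∀ g ∈ (P : Subgroup H), g * z = z * g) (hz1 : z ≠ 1)
    {v : V} (hv : z • v = v) : v = 0 := by
  let W : AddSubgroup V :=
    { carrier := {w | z • w = w}
      zero_mem' := smul_zero z
      add_mem' := fun {a b} ha hb => by
        change z • (a + b) = a + b
        rw [smul_add, ha, hb]
      neg_mem' := fun {a} ha => by
        change z • (-a) = -a
        rw [smul_neg, ha] }
  have hW : ∀ g ∈ (P : Subgroup H), ∀ w ∈ W, g • w ∈ W := by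
    intro g hg w hw
    change z • (g • w) = g • w
    have hw' : z • w = w := hw
    rw [← mul_smul, ← hzc g hg, mul_smul, hw']
  rcases S.sylow_irr P W hW with h0 | h1
  · have : v ∈ W := hv
    rw [h0, AddSubgroup.mem_bot] at this
    exact this
  · exfalso
    apply hz1
    apply eq_of_smul_eq_smul (α := V)
    intro w
    rw [one_smul]
    have : w ∈ W := h1 ▸ AddSubgroup.mem_top w
    exact this

end Setup

end Cfsg.Agent.Lib.Helper6.Orb
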