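import Mathlib

/-!
# S4125 orbit lemma: shared definitions (helper6)

`H` acts faithfully on the finite abelian `q`-group `V`, `q ∤ |H|`, all orbits of `p`-power length.
`Setup` is the situation of a minimal counterexample after the reduction to `V` irreducible
(see `notes/S4125_orbit_lemma_proof.md`).
-/

set_option autoImplicit false

namespace Cfsg.Agent.Lib.Helper6.Orb

/-- all orbits of `N` on `V` have `p`-power length -/
def PP (p : ℕ) (N V : Type*) [Group N] [AddCommGroup V] [DistribMulAction N V] : Prop :=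
  ∀ v : V, ∃ a : ℕ, Nat.card (MulAction.orbit N v) = p ^ a

/-- minimal counterexample situation: `V` irreducible, proper subgroups with the orbit
property are solvable. -/
structure Setup (p q : ℕ) (H V : Type*) [Group H] [AddCommGroup V] [DistribMulAction H V] :
    Prop where
  cardV : ∃ k : ℕ, Nat.card V = q ^ k
  coprime : (Nat.card H).Coprime q
  pp : PP p H V
  ih : ∀ N : Subgroup H, N ≠ ⊤ → PP p N V → Group.IsSolvable N
  irr : ∀ W : AddSubgroup V, (∀ h : H, ∀ w ∈ W, h • w ∈ W) → W = ⊥ ∨ W = ⊤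

/-- a direct decomposition `V = ⊕ W i` into nonzero subgroups, permuted transitively by the
subgroup `P` of `H`. -/
structure Blocks {H V : Type*} [Group H] [AddCommGroup V] [DistribMulAction H V]
    (P : Subgroup H) {ι : Type*} [Fintype ι] (W : ι → AddSubgroup V) : Prop where
  indep : ∀ f g : ι → V, (∀ i, f i ∈ W i) → (∀ i, g i ∈ W i) → ∑ i, f i = ∑ i, g i → f = g
  span : ∀ v : V, ∃ f : ι → V, (∀ i, f i ∈ W i) ∧ ∑ i, f i = v
  perm : ∀ g ∈ P, ∀ i, ∃ j, ∀ w ∈ W i, g • w ∈ W j
  trans : ∀ i j, ∃ g ∈ P, ∀ w ∈ W i, g • w ∈ W j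
  ne_bot : ∀ i, W i ≠ ⊥

/-- `H` is 2-transitive on the orbit of `v0`. -/
def TwoTrans (H : Type*) {V : Type*} [Group H] [AddCommGroup V] [DistribMulAction H V]
    (v0 : V) : Prop :=
  ∀ x y x' y' : V, x ∈ MulAction.orbit H v0 → y ∈ MulAction.orbit H v0 →
    x' ∈ MulAction.orbit H v0 → y' ∈ MulAction.orbit H v0 → x ≠ y → x' ≠ y' →
    ∃ h : H, h • x = x' ∧ h • y = y'

end Cfsg.Agent.Lib.Helper6.Orb
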