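import Cfsg.Agent.Lib.Helper6.Orb.Basic

/-!
# S4125 orbit lemma, leaf OrbD0 (step 6i): `p = 2`, `V` not `⟨a⟩`-irreducible gives two blocks
-/

set_option autoImplicit false

namespace Cfsg.Agent.Lib.Helper6.OrbLeaf
open Cfsg.Agent.Lib.Helper6.Orb

universe u v

variable {q : ℕ} [hq : Fact q.Prime]
  {H : Type u} {V : Type v} [Group H] [Finite H] [AddCommGroup V] [Finite V] [DistribMulAction H V]
  [FaithfulSMul H V]

/-- invariance under `a` gives invariance under `zpowers a` (finite order) -/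
theorem smul_mem_of_mem_zpowers {a : H} {U : AddSubgroup V} (hU : ∀ w ∈ U, a • w ∈ U) {x : H}
    (hx : x ∈ Subgroup.zpowers a) {w : V} (hw : w ∈ U) : x • w ∈ U := by
  rw [← mem_powers_iff_mem_zpowers] at hx
  obtain ⟨n, rfl⟩ := hx
  change a ^ n • w ∈ U
  induction n with
  | zero => simpa using hw
  | succ n ih => rw [pow_succ', mul_smul]; exact hU _ ih

/-- OrbD0 -/
theorem exists_blocks_of_reducible (S : Setup 2 q H V) (P : Sylow 2 H) (a b : H)
    (ha : a ∈ (P : Subgroup H)) (hb : b ∈ (P : Subgroup H))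
    (hidx : (Subgroup.zpowers a).relIndex (P : Subgroup H) = 2) (hbA : b ∉ Subgroup.zpowers a)
    (W : AddSubgroup V) (hW0 : W ≠ ⊥) (hWT : W ≠ ⊤) (hWa : ∀ w ∈ W, a • w ∈ W) :
    ∃ W' : Fin 2 → AddSubgroup V, Blocks (P : Subgroup H) W' := by
  classical
  set A : Subgroup H := Subgroup.zpowers a with hA
  have hAP : A ≤ (P : Subgroup H) := by
    rw [hA, Subgroup.zpowers_le]; exact ha
  -- index two calculus
  have hmul : ∀ x y : H, x ∈ (P : Subgroup H) → y ∈ (P : Subgroup H) →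
      (x * y ∈ A ↔ (x ∈ A ↔ y ∈ A)) := by
    intro x y hx hy
    have h := Subgroup.mul_mem_iff_of_index_two (H := A.subgroupOf (P : Subgroup H)) hidx
      (a := ⟨x, hx⟩) (b := ⟨y, hy⟩)
    simpa [Subgroup.mem_subgroupOf] using h
  have hbinv : b⁻¹ ∈ (P : Subgroup H) := Subgroup.inv_mem _ hb
  have hbinvA : b⁻¹ ∉ A := fun h => hbA (by simpa using Subgroup.inv_mem _ h)
  have hbb : b * b ∈ A := (hmul b b hb hb).2 Iff.rfl
  have hconj : ∀ x ∈ A, b⁻¹ * x * b ∈ A := by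
    intro x hx
    have hxP := hAP hx
    rw [hmul _ _ (Subgroup.mul_mem _ hbinv hxP) hb]
    have h1 : ¬ (b⁻¹ * x ∈ A) := by
      rw [hmul _ _ hbinv hxP]
      intro h
      exact hbinvA (h.2 hx)
    exact ⟨fun h => absurd h h1, fun h => absurd h hbA⟩
  have hcoset : ∀ g ∈ (P : Subgroup H), g ∉ A → b⁻¹ * g ∈ A := by
    intro g hg hgA
    rw [hmul _ _ hbinv hg]
    exact ⟨fun h => absurd h hbinvA, fun h => absurd h hgA⟩
  -- a minimal nonzero `a`-invariant subgroup inside `W`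
  obtain ⟨U, ⟨hU0, hUa, hUW⟩, hUmin⟩ := wellFounded_lt.has_min
    {U : AddSubgroup V | U ≠ ⊥ ∧ (∀ w ∈ U, a • w ∈ U) ∧ U ≤ W} ⟨W, hW0, hWa, le_rfl⟩
  have hUT : U ≠ ⊤ := by
    rintro rfl
    exact hWT (top_le_iff.mp hUW)
  have hUmin' : ∀ U' : AddSubgroup V, U' ≠ ⊥ → (∀ w ∈ U', a • w ∈ U') → U' ≤ U → U' = U := by
    intro U' h0 ha' hle
    by_contra hne
    exact hUmin U' ⟨h0, ha', hle.trans hUW⟩ (lt_of_le_of_ne hle hne)
  have hUA : ∀ x ∈ A, ∀ w ∈ U, x • w ∈ U := fun x hx w hw => smul_mem_of_mem_zpowers hUa hx hw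
  -- the second block
  set bU : AddSubgroup V := U.map (DistribSMul.toAddMonoidHom V b) with hbU
  have hmem_bU : ∀ v : V, v ∈ bU ↔ ∃ w ∈ U, b • w = v := by
    intro v
    rw [hbU, AddSubgroup.mem_map]
    rfl
  have hbUA : ∀ x ∈ A, ∀ w ∈ bU, x • w ∈ bU := by
    intro x hx w hw
    obtain ⟨w0, hw0, rfl⟩ := (hmem_bU w).1 hw
    refine (hmem_bU _).2 ⟨(b⁻¹ * x * b) • w0, hUA _ (hconj x hx) w0 hw0, ?_⟩
    rw [← mul_smul, ← mul_smul]
    congr 1
    group
  -- action of the other coset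
  have hswap1 : ∀ g ∈ (P : Subgroup H), g ∉ A → ∀ w ∈ U, g • w ∈ bU := by
    intro g hg hgA w hw
    refine (hmem_bU _).2 ⟨(b⁻¹ * g) • w, hUA _ (hcoset g hg hgA) w hw, ?_⟩
    rw [← mul_smul]
    congr 1
    group
  have hswap2 : ∀ g ∈ (P : Subgroup H), g ∉ A → ∀ w ∈ bU, g • w ∈ U := by
    intro g hg hgA w hw
    obtain ⟨w0, hw0, rfl⟩ := (hmem_bU w).1 hw
    have h1 : g • b • w0 = ((b * b) * (b⁻¹ * (b⁻¹ * g) * b)) • w0 := by
      rw [← mul_smul]
      congr 1
      group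
    rw [h1]
    exact hUA _ (Subgroup.mul_mem _ hbb (hconj _ (hcoset g hg hgA))) w0 hw0
  -- `U ⊔ bU = ⊤`
  have hsup : U ⊔ bU = ⊤ := by
    have hinv : ∀ g ∈ (P : Subgroup H), ∀ w ∈ U ⊔ bU, g • w ∈ U ⊔ bU := by
      intro g hg w hw
      obtain ⟨y, hy, z, hz, rfl⟩ := AddSubgroup.mem_sup.1 hw
      rw [smul_add]
      by_cases hgA : g ∈ A
      · exact AddSubgroup.mem_sup.2 ⟨g • y, hUA g hgA y hy, g • z, hbUA g hgA z hz, rfl⟩
      · refine AddSubgroup.mem_sup.2 ⟨g • z, hswap2 g hg hgA z hz, g • y, hswap1 g hg hgA y hy, ?_⟩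
        rw [add_comm]
    rcases S.sylow_irr P _ hinv with h | h
    · exact absurd (le_bot_iff.mp (h ▸ le_sup_left)) hU0
    · exact h
  -- `U ⊓ bU = ⊥`
  have hinf : U ⊓ bU = ⊥ := by
    by_contra hne
    have hIa : ∀ w ∈ U ⊓ bU, a • w ∈ U ⊓ bU := by
      intro w hw
      have haA : a ∈ A := Subgroup.mem_zpowers a
      exact ⟨hUA a haA w hw.1, hbUA a haA w hw.2⟩
    have hIU : U ⊓ bU = U := hUmin' _ hne hIa inf_le_left
    have hUbU : U ≤ bU := by
      rw [← hIU]; exact inf_le_right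
    -- `b • U ⊆ U`
    have hbUle : bU ≤ U := by
      have hcard : Nat.card bU = Nat.card U := by
        rw [hbU]
        exact AddSubgroup.card_map_of_injective
          (f := DistribSMul.toAddMonoidHom V b) (fun x y hxy => by
            have : b • x = b • y := hxy
            exact smul_left_cancel b this)
      have : (U : Set V) = (bU : Set V) :=
        Set.eq_of_subset_of_ncard_le hUbU (by
          rw [← Nat.card_coe_set_eq, ← Nat.card_coe_set_eq]
          exact hcard.le) (Set.toFinite _)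
      intro x hx
      have hx' : x ∈ (bU : Set V) := hx
      rw [← this] at hx'
      exact hx'
    have hinvU : ∀ g ∈ (P : Subgroup H), ∀ w ∈ U, g • w ∈ U := by
      intro g hg w hw
      by_cases hgA : g ∈ A
      · exact hUA g hgA w hw
      · exact hbUle (hswap1 g hg hgA w hw)
    rcases S.sylow_irr P U hinvU with h | h
    · exact hU0 h
    · exact hUT h
  have hbU0 : bU ≠ ⊥ := by
    intro h
    rw [h, sup_bot_eq] at hsup
    exact hUT hsup
  -- the blocks
  refine ⟨![U, bU], ?_⟩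
  have hW0' : (![U, bU] : Fin 2 → AddSubgroup V) 0 = U := rfl
  have hW1' : (![U, bU] : Fin 2 → AddSubgroup V) 1 = bU := rfl
  refine ⟨?_, ?_, ?_, ?_, ?_⟩
  · -- indep
    intro f g hf hg hsum
    rw [Fin.sum_univ_two, Fin.sum_univ_two] at hsum
    have hf0 : f 0 ∈ U := hf 0
    have hf1 : f 1 ∈ bU := hf 1
    have hg0 : g 0 ∈ U := hg 0
    have hg1 : g 1 ∈ bU := hg 1
    have hd : f 0 - g 0 = g 1 - f 1 := by
      rw [sub_eq_sub_iff_add_eq_add, hsum, add_comm]
    have hmem : f 0 - g 0 ∈ U ⊓ bU :=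
      ⟨U.sub_mem hf0 hg0, hd ▸ bU.sub_mem hg1 hf1⟩
    rw [hinf, AddSubgroup.mem_bot] at hmem
    have h0 : f 0 = g 0 := sub_eq_zero.mp hmem
    have h1 : f 1 = g 1 := by
      rw [hmem] at hd
      exact (sub_eq_zero.mp hd.symm).symm
    funext i
    fin_cases i
    · exact h0
    · exact h1
  · -- span
    intro v
    have hv : v ∈ U ⊔ bU := hsup ▸ AddSubgroup.mem_top v
    obtain ⟨y, hy, z, hz, rfl⟩ := AddSubgroup.mem_sup.1 hv
    refine ⟨![y, z], ?_, by rw [Fin.sum_univ_two]; rfl⟩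
    intro i
    fin_cases i
    · exact hy
    · exact hz
  · -- perm
    intro g hg i
    by_cases hgA : g ∈ A
    · refine ⟨i, ?_⟩
      fin_cases i
      · exact fun w hw => hUA g hgA w hw
      · exact fun w hw => hbUA g hgA w hw
    · fin_cases i
      · exact ⟨1, fun w hw => hswap1 g hg hgA w hw⟩
      · exact ⟨0, fun w hw => hswap2 g hg hgA w hw⟩
  · -- trans
    intro i j
    fin_cases i <;> fin_cases j
    · exact ⟨1, Subgroup.one_mem _, fun w hw => by simpa using hw⟩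
    · exact ⟨b, hb, fun w hw => hswap1 b hb hbA w hw⟩
    · exact ⟨b, hb, fun w hw => hswap2 b hb hbA w hw⟩
    · exact ⟨1, Subgroup.one_mem _, fun w hw => by simpa using hw⟩
  · -- ne_bot
    intro i
    fin_cases i
    · exact hU0
    · exact hbU0

end Cfsg.Agent.Lib.Helper6.OrbLeaf
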