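import Cfsg.Agent.Lib.Helper6.Orb.Basic
import Cfsg.Agent.Lib.Helper19.OrbA1
import Cfsg.Agent.Lib.Helper23.OrbA2
import Cfsg.Agent.Lib.Helper29.OrbA3b
import Cfsg.Agent.Lib.Helper29.OrbA3
import Cfsg.Agent.Lib.Helper2.OrbB1
import Cfsg.Agent.Lib.Helper20.OrbB2
import Cfsg.Agent.Lib.Helper12.OrbC1
import Cfsg.Agent.Lib.Helper2.OrbC2
import Cfsg.Agent.Lib.Helper18.OrbC3
import Cfsg.Agent.Lib.Helper9.OrbC4
import Cfsg.Agent.Lib.Helper6.Orb.OrbD0
import Cfsg.Agent.Lib.Helper9.OrbD1b
import Cfsg.Agent.Lib.Helper23.OrbD1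
import Cfsg.Agent.Lib.Helper20.OrbD2
import Cfsg.Agent.Lib.Helper7.OrbE1
import Cfsg.Agent.Lib.Helper15.OrbE2

/-!
# S4125 orbit lemma: assembly (helper6)

`isSolvable_of_pp`: a finite `q'`-group acting faithfully on a finite abelian `q`-group with all
orbits of `p`-power length (`p ≠ q`) is solvable.
-/

set_option autoImplicit false

namespace Cfsg.Agent.Lib.Helper6.Orb


universe u v

section core

variable {p q : ℕ} [hp : Fact p.Prime] [hq : Fact q.Prime]
  {H : Type u} {V : Type v} [Group H] [Finite H] [AddCommGroup V] [Finite V] [DistribMulAction H V]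
  [FaithfulSMul H V]

theorem solvable_of_isPGroup {G : Type*} [Group G] [Finite G] (h : IsPGroup p G) :
    Group.IsSolvable G := by
  haveI := h.isNilpotent
  infer_instance

/-- OrbC0: Burnside transfer. -/
theorem solvable_of_normalizer_le_centralizer (S : Setup p q H V) (P : Sylow p H)
    (h : Subgroup.normalizer ((P : Subgroup H) : Set H) ≤
      Subgroup.centralizer ((P : Subgroup H) : Set H)) : Group.IsSolvable H := by
  have hc := MonoidHom.ker_transferSylow_isComplement' P h
  have hnd := MonoidHom.not_dvd_card_ker_transferSylow P h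
  have hKcop : (Nat.card (MonoidHom.transferSylow P h).ker).Coprime p :=
    ((Nat.Prime.coprime_iff_not_dvd hp.out).2 hnd).symm
  have hK : (MonoidHom.transferSylow P h).ker = ⊥ :=
    eq_bot_of_normal_coprime S.pp _ hKcop
  rw [hK] at hc
  have hPtop : (P : Subgroup H) = ⊤ := Subgroup.isComplement'_bot_left.mp hc
  have hP : IsPGroup p H := by
    have h1 : IsPGroup p (P : Subgroup H) := P.2
    rw [hPtop] at h1
    exact h1.of_equiv Subgroup.topEquiv
  exact solvable_of_isPGroup hP

theorem zpowers_subgroupOf (K : Subgroup H) (a : K) :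
    (Subgroup.zpowers (a : H)).subgroupOf K = Subgroup.zpowers a := by
  ext x
  simp only [Subgroup.mem_subgroupOf, Subgroup.mem_zpowers_iff]
  constructor
  · rintro ⟨k, hk⟩
    exact ⟨k, Subtype.ext (by simpa using hk)⟩
  · rintro ⟨k, rfl⟩
    exact ⟨k, by simp⟩

/-- OrbB: trichotomy for `p`-groups. -/
theorem pgroup_trichotomy {P : Type*} [Group P] [Finite P] (hP : IsPGroup p P) :
    (∃ E : Subgroup P, E.Normal ∧ Nat.card E = p ^ 2 ∧ ∀ e ∈ E, e ^ p = 1) ∨ IsCyclic P ∨
    (p = 2 ∧ ∃ a a' b : P, (Subgroup.zpowers a).index = 2 ∧ a' ∈ Subgroup.zpowers a ∧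
      orderOf a' = 4 ∧ b ∉ Subgroup.zpowers a ∧ b * a' * b⁻¹ = a'⁻¹) := by
  by_cases hn : ∀ A : Subgroup P, A.Normal → IsMulCommutative A → IsCyclic A
  · exact Or.inr (Cfsg.Agent.Lib.Helper20.OrbLeaf.cyclic_or_index_two hP hn)
  · push Not at hn
    obtain ⟨A, hAn, hAc, hnc⟩ := hn
    exact Or.inl (Cfsg.Agent.Lib.Helper2.OrbLeaf.exists_klein_of_normal_abelian hP A hAn hAc hnc)

theorem core (S : Setup p q H V) (hpq : p ≠ q) : Group.IsSolvable H := by
  classical
  obtain ⟨P⟩ : Nonempty (Sylow p H) := inferInstance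
  have hPp : IsPGroup p (P : Subgroup H) := P.2
  rcases pgroup_trichotomy (p := p) hPp with
    ⟨E, hEn, hEc, hEe⟩ | hcyc | ⟨rfl, a, a', b, hidx, ha', ho, hbA, hinv⟩
  · -- a normal `Z_p × Z_p`
    have hinj : Function.Injective (P : Subgroup H).subtype := Subgroup.subtype_injective _
    obtain ⟨W, hW⟩ := Cfsg.Agent.Lib.Helper19.OrbLeaf.exists_blocks_of_klein S hpq P (E.map (P : Subgroup H).subtype)
      (Subgroup.map_subtype_le E)
      (by
        rintro g hg _ ⟨e, he, rfl⟩
        refine ⟨⟨g, hg⟩ * e * ⟨g, hg⟩⁻¹, hEn.conj_mem e he ⟨g, hg⟩, ?_⟩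
        simp)
      (by rw [Subgroup.card_map_of_injective hinj, hEc])
      (by
        rintro _ ⟨e, he, rfl⟩
        have := hEe e he
        rw [← map_pow, this, map_one])
    obtain ⟨σ, hσ⟩ := Cfsg.Agent.Lib.Helper23.OrbLeaf.blocks_perm S P W hW
    exact Cfsg.Agent.Lib.Helper29.OrbLeaf.solvable_of_blocks S P (by simp) W hW σ hσ
      (Cfsg.Agent.Lib.Helper29.OrbLeaf.le_three_of_two_transitive S P (by simp) W hW σ hσ)
  · -- cyclic Sylow subgroup
    obtain ⟨g0, hg0⟩ := hcyc.exists_generator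
    have hg : (P : Subgroup H) = Subgroup.zpowers (g0 : H) := by
      ext x
      constructor
      · intro hx
        obtain ⟨k, hk⟩ := Subgroup.mem_zpowers_iff.mp (hg0 ⟨x, hx⟩)
        exact Subgroup.mem_zpowers_iff.mpr ⟨k, by simpa using congrArg Subtype.val hk⟩
      · intro hx
        obtain ⟨k, hk⟩ := Subgroup.mem_zpowers_iff.mp hx
        rw [← hk]
        exact Subgroup.zpow_mem _ g0.2 k
    have hC : (p = 2 ∨ ∀ x : H, x * (g0 : H) ^ (orderOf (g0 : H) / p) =
        (g0 : H) ^ (orderOf (g0 : H) / p) * x) → Group.IsSolvable H := fun h =>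
      solvable_of_normalizer_le_centralizer S P (Cfsg.Agent.Lib.Helper9.OrbLeaf.normalizer_le_centralizer_of_cyclic P _ hg h)
    by_cases hg1 : (g0 : H) = 1
    · -- `P = ⊥`, so `H` is a `p'`-group
      have hPbot : (P : Subgroup H) = ⊥ := by rw [hg, hg1, Subgroup.zpowers_one_eq_bot]
      have hcop : (Nat.card (⊤ : Subgroup H)).Coprime p := by
        rw [Subgroup.card_top]
        have h1 : ¬ p ∣ (P : Subgroup H).index := P.not_dvd_index
        rw [hPbot, Subgroup.index_bot] at h1
        exact ((Nat.Prime.coprime_iff_not_dvd hp.out).2 h1).symm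
      have htop : (⊤ : Subgroup H) = ⊥ := eq_bot_of_normal_coprime S.pp ⊤ hcop
      haveI : Subsingleton H := by
        refine ⟨fun x y => ?_⟩
        have hx : x ∈ (⊤ : Subgroup H) := Subgroup.mem_top x
        have hy : y ∈ (⊤ : Subgroup H) := Subgroup.mem_top y
        rw [htop, Subgroup.mem_bot] at hx hy
        rw [hx, hy]
      infer_instance
    · by_cases hp2 : p = 2
      · exact hC (Or.inl hp2)
      · obtain ⟨v0, hv0⟩ : ∃ v0 : V, v0 ≠ 0 := by
          by_contra hcon
          push Not at hcon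
          apply hg1
          apply FaithfulSMul.eq_of_smul_eq_smul (α := V)
          intro v
          rw [hcon v, smul_zero, smul_zero]
        have hn2 := Cfsg.Agent.Lib.Helper12.OrbLeaf.not_twoTrans S hpq P hp2 _ hg hg1 v0 hv0
        rcases Cfsg.Agent.Lib.Helper18.OrbLeaf.solvable_or_normal_of_not_twoTrans S P _ hg hg1 v0 hv0 hn2 with
          h | ⟨N, hNn, hN1, hNT⟩
        · exact h
        · rcases Cfsg.Agent.Lib.Helper2.OrbLeaf.solvable_or_central_of_normal S P _ hg N hNn hN1 hNT with h | hz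
          · exact h
          · exact hC (Or.inr hz)
  · -- `p = 2`, cyclic subgroup of index 2
    have hq2 : q ≠ 2 := fun h => hpq h.symm
    have hidx' : (Subgroup.zpowers (a : H)).relIndex (P : Subgroup H) = 2 := by
      rw [Subgroup.relIndex, zpowers_subgroupOf, hidx]
    have ha'' : (a' : H) ∈ Subgroup.zpowers (a : H) := by
      obtain ⟨k, hk⟩ := Subgroup.mem_zpowers_iff.mp ha'
      exact Subgroup.mem_zpowers_iff.mpr ⟨k, by simpa using congrArg Subtype.val hk⟩
    have ho' : orderOf (a' : H) = 4 := by rw [Subgroup.orderOf_coe, ho]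
    have hbA' : (b : H) ∉ Subgroup.zpowers (a : H) := by
      intro hb
      apply hbA
      obtain ⟨k, hk⟩ := Subgroup.mem_zpowers_iff.mp hb
      exact Subgroup.mem_zpowers_iff.mpr ⟨k, Subtype.ext (by simpa using hk)⟩
    have hinv' : (b : H) * (a' : H) * (b : H)⁻¹ = (a' : H)⁻¹ := by
      have := congrArg Subtype.val hinv
      simpa using this
    by_cases hred : ∃ W : AddSubgroup V, W ≠ ⊥ ∧ W ≠ ⊤ ∧ ∀ w ∈ W, (a : H) • w ∈ W
    · obtain ⟨W, hW0, hWT, hWa⟩ := hred
      obtain ⟨W', hW'⟩ := Cfsg.Agent.Lib.Helper6.OrbLeaf.exists_blocks_of_reducible S P (a : H) (b : H) a.2 b.2 hidx' hbA'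
        W hW0 hWT hWa
      obtain ⟨σ, hσ⟩ := Cfsg.Agent.Lib.Helper23.OrbLeaf.blocks_perm S P W' hW'
      exact Cfsg.Agent.Lib.Helper29.OrbLeaf.solvable_of_blocks S P (by simp) W' hW' σ hσ (fun _ => by norm_num)
    · have hirr : ∀ W : AddSubgroup V, (∀ w ∈ W, (a : H) • w ∈ W) → W = ⊥ ∨ W = ⊤ := by
        intro W hW
        by_contra hcon
        push Not at hcon
        exact hred ⟨W, hcon.1, hcon.2, hW⟩
      obtain ⟨F, iF, iFt, iC, τ, J, α, e, hτ, hJ, hτJ, hα, hgen, hcard⟩ :=
        Cfsg.Agent.Lib.Helper23.OrbLeaf.exists_field_of_irreducible S hq2 P (a : H) (a' : H) (b : H) a.2 b.2 hidx' ha'' ho' hbA'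
          hinv' hirr
      have hle : Fintype.card F ≤ q ^ 2 := Cfsg.Agent.Lib.Helper9.OrbLeaf.card_le_sq_of_aut hq2 τ hτ J hJ hτJ α e hα hgen
      exact Cfsg.Agent.Lib.Helper20.OrbLeaf.solvable_of_card_le_sq S hpq (hcard ▸ hle)

end core

section induction

variable {p q : ℕ} [hp : Fact p.Prime] [hq : Fact q.Prime]

theorem isSolvable_of_pp_aux (hpq : p ≠ q) : ∀ (n : ℕ) (H : Type u) (V : Type v) [Group H]
    [Finite H] [AddCommGroup V] [Finite V] [DistribMulAction H V] [FaithfulSMul H V],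
    (∃ k : ℕ, Nat.card V = q ^ k) → (Nat.card H).Coprime q → PP p H V →
    Nat.card H + Nat.card V = n → Group.IsSolvable H := by
  intro n
  induction n using Nat.strong_induction_on with
  | _ n IH =>
    intro H V _ _ _ _ _ _ hV hcop hpp hn
    have ih : ∀ (H' : Type u) (V' : Type v) [Group H'] [Finite H'] [AddCommGroup V'] [Finite V']
        [DistribMulAction H' V'] [FaithfulSMul H' V'], (∃ k : ℕ, Nat.card V' = q ^ k) →
        (Nat.card H').Coprime q → PP p H' V' →
        Nat.card H' + Nat.card V' < Nat.card H + Nat.card V → Group.IsSolvable H' := by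
      intro H' V' _ _ _ _ _ _ h1 h2 h3 hlt
      exact IH _ (hn ▸ hlt) H' V' h1 h2 h3 rfl
    by_cases hirr : ∀ W : AddSubgroup V, (∀ h : H, ∀ w ∈ W, h • w ∈ W) → W = ⊥ ∨ W = ⊤
    · refine core ⟨hV, hcop, hpp, ?_, hirr⟩ hpq
      intro N hN hppN
      have hlt : Nat.card N < Nat.card H := by
        have hle : Nat.card N ≤ Nat.card H := Subgroup.card_le_card_group N
        rcases hle.lt_or_eq with h | h
        · exact h
        · exact absurd ((Subgroup.card_eq_iff_eq_top N).mp h) hN
      exact ih N V hV (Nat.Coprime.coprime_dvd_left (Subgroup.card_subgroup_dvd_card N) hcop)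
        hppN (by omega)
    · push Not at hirr
      obtain ⟨W, hW, hW0, hWT⟩ := hirr
      rcases Cfsg.Agent.Lib.Helper7.OrbLeaf.solvable_or_centralizes hV hcop hpp ih W hW hWT with h | hc
      · exact h
      · exact Cfsg.Agent.Lib.Helper15.OrbLeaf.solvable_of_centralizes hV hcop hpp ih W hW0 hc

/-- **The S4125 orbit lemma** (action form): a finite `q'`-group acting faithfully on a finite
abelian `q`-group such that all orbits have `p`-power length (`p ≠ q`) is solvable. -/
theorem isSolvable_of_pp {H : Type u} {V : Type v} [Group H] [Finite H] [AddCommGroup V]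
    [Finite V] [DistribMulAction H V] [FaithfulSMul H V] (hpq : p ≠ q)
    (hV : ∃ k : ℕ, Nat.card V = q ^ k) (hcop : (Nat.card H).Coprime q) (hpp : PP p H V) :
    Group.IsSolvable H :=
  isSolvable_of_pp_aux hpq _ H V hV hcop hpp rfl

end induction

end Cfsg.Agent.Lib.Helper6.Orb
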