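import Cfsg.Agent.Lib.Helper6.Orb.Main

/-!
# S4125 orbit lemma: multiplicative and group forms (helper6)
-/

set_option autoImplicit false

namespace Cfsg.Agent.Lib.Helper6.Orb

universe u v

variable {p q : ℕ} [hp : Fact p.Prime] [hq : Fact q.Prime]

/-- additive version of a `MulDistribMulAction` -/
@[reducible] def additiveDistribMulAction (M : Type*) (G : Type*) [Monoid M] [CommGroup G]
    [MulDistribMulAction M G] : DistribMulAction M (Additive G) where
  smul m a := Additive.ofMul (m • Additive.toMul a)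
  one_smul a := by
    change Additive.ofMul ((1 : M) • Additive.toMul a) = a
    rw [one_smul]; rfl
  mul_smul m n a := by
    change Additive.ofMul ((m * n) • Additive.toMul a) =
      Additive.ofMul (m • Additive.toMul (Additive.ofMul (n • Additive.toMul a)))
    rw [mul_smul]; rfl
  smul_zero m := by
    change Additive.ofMul (m • (1 : G)) = 0
    rw [smul_one]; rfl
  smul_add m a b := by
    change Additive.ofMul (m • (Additive.toMul a * Additive.toMul b)) = _
    rw [smul_mul']; rfl

/-- **The S4125 orbit lemma**, multiplicative form. -/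
theorem isSolvable_of_pp_mul {H : Type u} {Q : Type v} [Group H] [Finite H] [CommGroup Q]
    [Finite Q] [MulDistribMulAction H Q] [FaithfulSMul H Q] (hpq : p ≠ q)
    (hQ : ∃ k : ℕ, Nat.card Q = q ^ k) (hcop : (Nat.card H).Coprime q)
    (hpp : ∀ x : Q, ∃ a : ℕ, Nat.card (MulAction.orbit H x) = p ^ a) : Group.IsSolvable H := by
  letI := additiveDistribMulAction H Q
  haveI : FaithfulSMul H (Additive Q) :=
    ⟨fun {m₁ m₂} h => FaithfulSMul.eq_of_smul_eq_smul (α := Q) fun x =>
      congrArg Additive.toMul (h (Additive.ofMul x))⟩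
  haveI : Finite (Additive Q) := inferInstanceAs (Finite Q)
  refine isSolvable_of_pp (p := p) (q := q) (H := H) (V := Additive Q) hpq hQ hcop ?_
  intro v
  exact hpp (Additive.toMul v)

/-- **The S4125 orbit lemma**, group form (signature requested by lead, msg 2704): `V` a normal
abelian Sylow `q`-subgroup of `Γ` with `C_Γ(V) ≤ V`, all `v ∈ V` have `p`-power class size. -/
theorem isSolvable_of_abelian_sylow_pPow_classes {Γ : Type*} [Group Γ] [Finite Γ] {p q : ℕ}
    [Fact p.Prime] [Fact q.Prime] (hpq : p ≠ q) (V : Subgroup Γ) [V.Normal]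
    (hab : ∀ x ∈ V, ∀ y ∈ V, x * y = y * x) (hq : IsPGroup q V) (hidx : V.index.Coprime q)
    (hself : Subgroup.centralizer (V : Set Γ) ≤ V)
    (hcls : ∀ v ∈ V, ∃ a : ℕ, (Subgroup.centralizer ({v} : Set Γ)).index = p ^ a) :
    Group.IsSolvable Γ := by
  classical
  letI : CommGroup ↥V :=
    { (inferInstance : Group ↥V) with
      mul_comm := fun x y => Subtype.ext (hab x x.2 y y.2) }
  set φ : Γ →* MulAut ↥V := MulAut.conjNormal with hφ
  have hφapp : ∀ (g : Γ) (v : ↥V), ((φ g v : ↥V) : Γ) = g * v * g⁻¹ := fun g v => rfl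
  have hker : φ.ker ≤ V := by
    intro g hg
    apply hself
    rw [Subgroup.mem_centralizer_iff]
    intro v hv
    have h1 : φ g ⟨v, hv⟩ = ⟨v, hv⟩ := by
      rw [MonoidHom.mem_ker.mp hg]; rfl
    have h2 := congrArg Subtype.val h1
    rw [hφapp] at h2
    simp only at h2
    calc v * g = (g * v * g⁻¹) * g := by rw [h2]
      _ = g * v := by group
  have hVker : V ≤ φ.ker := by
    intro g hg
    rw [MonoidHom.mem_ker]
    ext v
    rw [hφapp]
    change g * (v : Γ) * g⁻¹ = (v : Γ)
    rw [hab g hg v v.2, mul_inv_cancel_right]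
  have hkerV : φ.ker = V := le_antisymm hker hVker
  -- the range acts faithfully on `V`
  have hcardR : Nat.card φ.range = V.index := by
    rw [← Subgroup.index_ker, hkerV]
  have hcop : (Nat.card φ.range).Coprime q := hcardR ▸ hidx
  obtain ⟨k, hk⟩ := IsPGroup.iff_card.mp hq
  have hpp : ∀ x : ↥V, ∃ a : ℕ, Nat.card (MulAction.orbit φ.range x) = p ^ a := by
    intro x
    obtain ⟨a, ha⟩ := hcls x x.2
    refine ⟨a, ?_⟩
    letI : MulAction Γ ↥V := MulAction.compHom ↥V φ
    have hsm : ∀ (g : Γ) (v : ↥V), g • v = φ g v := fun g v => rfl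
    have horb : MulAction.orbit φ.range x = MulAction.orbit Γ x := by
      ext y
      constructor
      · rintro ⟨⟨_, g, rfl⟩, rfl⟩
        exact ⟨g, rfl⟩
      · rintro ⟨g, rfl⟩
        exact ⟨⟨φ g, g, rfl⟩, rfl⟩
    have hstab : MulAction.stabilizer Γ x = Subgroup.centralizer ({(x : Γ)} : Set Γ) := by
      ext g
      rw [MulAction.mem_stabilizer_iff, Subgroup.mem_centralizer_singleton_iff, hsm]
      constructor
      · intro h
        have h2 := congrArg Subtype.val h
        rw [hφapp] at h2
        calc g * (x : Γ) = g * (x : Γ) * g⁻¹ * g := by group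
          _ = (x : Γ) * g := by rw [h2]
      · intro h
        apply Subtype.ext
        rw [hφapp, h, mul_inv_cancel_right]
    rw [horb, Nat.card_coe_set_eq, ← MulAction.index_stabilizer, hstab, ha]
  haveI : Group.IsSolvable φ.range :=
    isSolvable_of_pp_mul (p := p) (q := q) (H := φ.range) (Q := ↥V) hpq ⟨k, hk⟩ hcop hpp
  haveI : Group.IsSolvable ↥V := Group.isSolvable_of_comm fun x y => mul_comm x y
  refine Group.isSolvable_of_ker_le_range V.subtype φ.rangeRestrict ?_
  rw [MonoidHom.ker_rangeRestrict, Subgroup.range_subtype]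
  exact hker

end Cfsg.Agent.Lib.Helper6.Orb
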